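import Cfsg.Agent.SelfCentNC.TwoGroup
import Cfsg.Agent.Classical.PSLKlein
import Cfsg.Agent.PSL2Bin.Odd
import Cfsg.Agent.ShultGross.TwoLayer

/-!
The groups PSL(2, q) in which every non-cyclic subgroup contains its centraliser.
-/

set_option autoImplicit false

namespace Cfsg.Agent.SelfCentNC

open Subgroup Cfsg.Agent.SL2Class Cfsg.Agent.Classical.Dickson2

theorem pow_eq_two_pow_add_one {p f k : ℕ} (hp : p.Prime) (hodd : Odd p) (hf : 1 ≤ f)
    (h : p ^ f = 2 ^ k + 1) : f = 1 ∨ p ^ f = 9 := by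
  rcases Nat.even_or_odd f with ⟨c, rfl⟩ | hfo
  · right
    set x := p ^ c with hx
    have hx3 : 3 ≤ x := by
      have h1 : p ≤ p ^ c := Nat.le_self_pow (by omega) p
      have := hp.two_le
      obtain ⟨d, rfl⟩ := hodd
      omega
    rw [pow_add, ← hx] at h ⊢
    obtain ⟨y, hy⟩ : ∃ y, x = y + 1 := ⟨x - 1, by omega⟩
    have hmul : y * (y + 2) = 2 ^ k := by rw [hy] at h; linarith
    obtain ⟨i, -, hi⟩ := (Nat.dvd_prime_pow Nat.prime_two).1 ⟨y + 2, hmul.symm⟩
    obtain ⟨j, -, hj⟩ := (Nat.dvd_prime_pow Nat.prime_two).1 ⟨y, by rw [← hmul, mul_comm]⟩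
    have hi1 : i = 1 := by
      by_contra hne
      have hi0 : i ≠ 0 := by rintro rfl; omega
      have hji : i < j := (Nat.pow_lt_pow_iff_right (show 1 < 2 by norm_num)).1 (by omega)
      obtain ⟨u, hu⟩ : 2 ^ 2 ∣ 2 ^ i := pow_dvd_pow 2 (show 2 ≤ i by omega)
      obtain ⟨v, hv⟩ : 2 ^ 2 ∣ 2 ^ j := pow_dvd_pow 2 (show 2 ≤ j by omega)
      omega
    rw [hi1] at hi
    rw [hy, hi]; norm_num
  · left
    by_contra hf1
    have hf3 : 3 ≤ f := by obtain ⟨d, rfl⟩ := hfo; omega
    set S := ∑ i ∈ Finset.range f, p ^ i with hS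
    have hSodd : Odd S := by
      rw [hS, Finset.odd_sum_iff_odd_card_odd, Finset.filter_true_of_mem (fun i _ => hodd.pow),
        Finset.card_range]
      exact hfo
    have hSd : S ∣ 2 ^ k := ⟨p - 1, by
      rw [hS, geom_sum_mul_of_one_le hp.one_lt.le f, h, Nat.add_sub_cancel]⟩
    obtain ⟨i, -, hi⟩ := (Nat.dvd_prime_pow Nat.prime_two).1 hSd
    have hi0 : i = 0 := by
      by_contra hne
      obtain ⟨u, hu⟩ := hSodd
      have : 2 ∣ 2 ^ i := dvd_pow_self 2 hne
      omega
    have h2 : ∑ i ∈ Finset.range 2, p ^ i ≤ S :=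
      Finset.sum_le_sum_of_subset (by intro i; simp; omega)
    rw [Finset.sum_range_succ, Finset.sum_range_one, pow_zero, pow_one] at h2
    rw [hi0, pow_zero] at hi
    have := hp.two_le
    omega

variable {F : Type*} [Field F] [Fintype F]

local notation "PG" => Matrix.ProjectiveSpecialLinearGroup (Fin 2) F

variable (p : ℕ) [Fact p.Prime] [CharP F p]

theorem sc_psl (hq : Fintype.card F = p ∨ Fintype.card F = p ^ 2)
    (h2p : ∀ y : PG, y ^ p ≠ 1 → y * y = 1 → ∃ k, Nat.card (tor y) = 2 ^ k) : SC PG := by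
  have hp := (Fact.out : p.Prime)
  intro H hH c hc
  by_contra hcH
  have hc1 : c ≠ 1 := fun e => hcH (e ▸ one_mem H)
  have hcomm : ∀ g ∈ H, g * c = c * g := fun g hg => mem_centralizer_iff.1 hc g hg
  have hcyc : ∀ K : Subgroup PG, IsCyclic ↥K → H ≤ K → False := fun K hK hle =>
    hH ((subgroupOfEquivOfLe hle).isCyclic.1 inferInstance)
  by_cases hu : c ^ p = 1
  · have hle : H ≤ tor c := fun g hg => centralizer_unip p hc1 hu (hcomm g hg)
    have hT := card_tor_unip p hc1 hu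
    have hd := card_dvd_of_le hle
    rw [hT] at hd
    have hsmall : Nat.card H ∣ p → False := fun h => by
      rcases (Nat.dvd_prime hp).1 h with e | e
      · have : Subsingleton H := (Nat.card_eq_one_iff_unique.1 e).1
        exact hH inferInstance
      · exact hH (isCyclic_of_prime_card (p := p) e)
    rcases hq with e | e <;> rw [e] at hd hT
    · exact hsmall hd
    · obtain ⟨i, hi, he⟩ := (Nat.dvd_prime_pow hp).1 hd
      rcases Nat.lt_or_ge i 2 with hi2 | hi2
      · exact hsmall (he ▸ (pow_dvd_pow p (show i ≤ 1 by omega)).trans (pow_one p).dvd)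
      · have : H = tor c := eq_of_le_of_card_ge hle (by rw [hT, he, show i = 2 by omega])
        exact hcH (this ▸ mem_tor c)
  · have hN : ∀ g ∈ H, g ∈ normalizer (tor c : Set PG) := fun g hg =>
      PSL2Bin.centralizer_semis (hcomm g hg)
    have hT := isCyclic_tor p hu
    by_cases hc2 : c * c = 1
    · obtain ⟨k, hk⟩ := h2p c hu hc2
      by_cases hint : ∃ u ∈ H, u ∈ tor c ∧ u ≠ 1
      · obtain ⟨u, huH, huT, hu1⟩ := hint
        refine hcH (zpowers_le.2 huH (Fusion.mem_zpowers_of_orderOf_dvd hT (mem_tor c) huT ?_))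
        have hd := Subgroup.orderOf_dvd_natCard _ huT
        rw [hk] at hd
        obtain ⟨i, -, hi⟩ := (Nat.dvd_prime_pow Nat.prime_two).1 hd
        refine (orderOf_dvd_of_pow_eq_one (n := 2) (by rw [pow_two, hc2])).trans ?_
        rw [hi]
        refine dvd_pow_self 2 fun hi0 => hu1 (orderOf_eq_one_iff.1 (by rw [hi, hi0, pow_zero]))
      · push Not at hint
        obtain ⟨w, -, -, -, -, hcov⟩ := normalizer_semis p hu
        by_cases hbot : ∀ g ∈ H, g = 1
        · exact hcyc ⊥ inferInstance fun g hg => mem_bot.2 (hbot g hg)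
        push Not at hbot
        obtain ⟨g, hgH, hg1⟩ := hbot
        refine hcyc (zpowers g) inferInstance fun g' hg' => ?_
        rcases hcov g' (hN g' hg') with h' | h'
        · rw [hint g' hg' h']; exact one_mem _
        · rcases hcov g (hN g hgH) with h'' | h''
          · exact absurd (hint g hgH h'') hg1
          · have hm := mul_mem (inv_mem h'') h'
            rw [show (w * g)⁻¹ * (w * g') = g⁻¹ * g' by group] at hm
            have := hint _ (mul_mem (inv_mem hgH) hg') hm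
            rw [inv_mul_eq_one] at this
            exact this ▸ mem_zpowers g
    · refine hcyc (tor c) hT fun g hg => ?_
      by_contra hgn
      have e := (inverts_of_not_mem p hu (hN g hg) hgn).2 c (mem_tor c)
      rw [hcomm g hg, mul_inv_cancel_right] at e
      exact hc2 (by nth_rw 1 [e]; exact inv_mul_cancel c)

omit p in
/-- The converse half of the theorem for the groups PSL(2, q). -/
theorem sc_of_card (h : Fintype.card F = 4 ∨ Fintype.card F = 9 ∨
    ((Fintype.card F).Prime ∧ ∃ k : ℕ, Fintype.card F = 2 ^ k + 1 ∨ Fintype.card F = 2 ^ k - 1)) : SC PG := by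
  obtain ⟨r, hr⟩ := CharP.exists F
  obtain ⟨n, hrp, hn⟩ := FiniteField.card F r
  have : Fact r.Prime := ⟨hrp⟩
  have hodd : ∀ y : PG, y ^ r ≠ 1 → y * y = 1 → Odd (Fintype.card F) ∧ Odd r := by
    intro y hy hy2
    have hr2 : r ≠ 2 := fun e => hy (by rw [e, pow_two, hy2])
    have := hrp.odd_of_ne_two hr2
    exact ⟨hn ▸ this.pow, this⟩
  have htor : ∀ y : PG, y ^ r ≠ 1 → y * y = 1 → 2 ∣ Nat.card (tor y) ∧
      (Nat.card (tor y) * 2 + 1 = Fintype.card F ∨ Nat.card (tor y) * 2 = Fintype.card F + 1) := fun y hy hy2 =>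
    PSL2Bin.card_tor_invol r (hodd y hy hy2).1 (hodd y hy hy2).2 (ne_one_of_semis r hy) hy2
  rcases h with h | h | ⟨hqp, k, hk⟩
  · have e : r = 2 := by
      have hd : r ∣ 2 ^ 2 := by rw [show (2 : ℕ) ^ 2 = 4 from rfl, ← h, hn]; exact dvd_pow_self r n.pos.ne'
      exact (Nat.prime_dvd_prime_iff_eq hrp Nat.prime_two).1 (hrp.dvd_of_dvd_pow hd)
    exact sc_psl r (Or.inr (by rw [h, e]; rfl)) fun y hy hy2 => absurd (by rw [e, pow_two, hy2]) hy
  · have e : r = 3 := by
      have hd : r ∣ 3 ^ 2 := by rw [show (3 : ℕ) ^ 2 = 9 from rfl, ← h, hn]; exact dvd_pow_self r n.pos.ne'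
      exact (Nat.prime_dvd_prime_iff_eq hrp Nat.prime_three).1 (hrp.dvd_of_dvd_pow hd)
    refine sc_psl r (Or.inr (by rw [h, e]; rfl)) fun y hy hy2 => ⟨2, ?_⟩
    have := htor y hy hy2
    omega
  · have e : Fintype.card F = r := by
      rw [hn] at hqp ⊢
      rw [hqp.eq_one_of_pow, pow_one]
    refine sc_psl r (Or.inl e) fun y hy hy2 => ?_
    obtain ⟨h2, hcase⟩ := htor y hy hy2
    have := hqp.two_le
    rcases k with _ | _ | k
    · simp only [pow_zero] at hk
      omega
    · simp only [Nat.reduceAdd, pow_one] at hk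
      exact ⟨1, by omega⟩
    · refine ⟨k + 1, ?_⟩
      have h4 : 2 ^ (k + 1) = 2 * 2 ^ k := pow_succ' 2 k
      have h5 : 2 ^ (k + 1 + 1) = 2 * 2 ^ (k + 1) := pow_succ' 2 (k + 1)
      omega

omit p in
theorem card_of_centralizer (hodd : Odd (Fintype.card F))
    (h : ∀ y : PG, orderOf y = 2 → IsPGroup 2 ↥(centralizer ({y} : Set PG))) :
    Fintype.card F = 9 ∨
      ((Fintype.card F).Prime ∧ ∃ k : ℕ, Fintype.card F = 2 ^ k + 1 ∨ Fintype.card F = 2 ^ k - 1) := by
  obtain ⟨r, hr⟩ := CharP.exists F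
  obtain ⟨n, hrp, hn⟩ := FiniteField.card F r
  have : Fact r.Prime := ⟨hrp⟩
  have : Fact (Nat.Prime 2) := ⟨Nat.prime_two⟩
  have hrodd : Odd r := (Nat.odd_pow_iff n.pos.ne').1 (hn ▸ hodd)
  have h2 : (2 : F) ≠ 0 := PSL2Bin.two_ne hodd
  obtain ⟨g, hg⟩ := Classical.PKlein.exists_T0 (F := F)
  obtain ⟨hy1, hy2⟩ := (Classical.PKlein.involution_iff h2).2 hg
  set y : PG := proj g with hy
  have hle : tor y ≤ centralizer ({y} : Set PG) := fun u hu =>
    mem_centralizer_singleton_iff.2 (tor_comm hy1 hu (mem_tor y))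
  obtain ⟨j, hj⟩ := IsPGroup.iff_card.1 ((h y (orderOf_eq_prime (by rw [pow_two, hy2]) hy1)).to_le hle)
  obtain ⟨-, hcase⟩ := PSL2Bin.card_tor_invol r hodd hrodd hy1 hy2
  rw [hj, ← pow_succ] at hcase
  have key : (n : ℕ) = 1 ∨ r ^ (n : ℕ) = 9 := by
    rcases hcase with e | e
    · exact pow_eq_two_pow_add_one hrp hrodd n.pos (hn ▸ e.symm)
    · left
      refine ShultGross.pow_add_one_eq_two_pow hrodd n.pos ?_ (hn ▸ e.symm)
      have := hrp.two_le
      obtain ⟨d, rfl⟩ := hrodd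
      omega
  rcases key with e | e
  · refine Or.inr ⟨by rw [hn, e, pow_one]; exact hrp, j + 1, ?_⟩
    omega
  · exact Or.inl (hn.trans e)

end Cfsg.Agent.SelfCentNC
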