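import Cfsg.Agent.Invol.QDMax
import Cfsg.Agent.Invol.QDFusion
import Mathlib.GroupTheory.Transfer

/-!
A simple group with a semidihedral Sylow 2-subgroup has no 2-group as the centraliser of a central
involution.
-/

set_option autoImplicit false

namespace Cfsg.Agent.SelfCentNC

open Subgroup
open Cfsg.Agent.Invol

variable {G : Type*} [Group G] [Finite G]

theorem multiplicative_two_sq : ∀ u : Multiplicative (ZMod 2), u ^ 2 = 1 := by decide

/-- The parity map of a subgroup of index two. -/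
theorem exists_parity {P : Type*} [Group P] {M : Subgroup P} (h : M.index = 2) :
    ∃ φ : P →* Multiplicative (ZMod 2), ∀ x, φ x = 1 ↔ x ∈ M := by
  classical
  refine ⟨MonoidHom.mk' (fun x => if x ∈ M then 1 else Multiplicative.ofAdd 1) fun a b => ?_, fun x => ?_⟩
  · have := mul_mem_iff_of_index_two h (a := a) (b := b)
    by_cases ha : a ∈ M <;> by_cases hb : b ∈ M <;> simp_all
    exact (by decide : (1 : Multiplicative (ZMod 2)) = Multiplicative.ofAdd 1 * Multiplicative.ofAdd 1)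
  · by_cases hx : x ∈ M
    · simp [hx]
    · simp [hx]

/-- If some homomorphism of a Sylow subgroup to an abelian group has the same value on all conjugates of the
powers of an element, the transfer of that element is its power by the index. -/
theorem transfer_of_fused {P : Subgroup G} {A : Type*} [CommGroup A] (φ : P →* A) (a : P)
    (key : ∀ (k : ℕ) (g₀ : G) (hk : g₀⁻¹ * (a : G) ^ k * g₀ ∈ P),
      φ ⟨g₀⁻¹ * (a : G) ^ k * g₀, hk⟩ = φ a ^ k) :
    MonoidHom.transfer φ (a : G) = φ a ^ P.index := by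
  classical
  letI := P.fintypeQuotientOfFiniteIndex
  haveI := Fintype.ofFinite (Quotient (MulAction.orbitRel (zpowers (a : G)) (G ⧸ P)))
  rw [MonoidHom.transfer_eq_prod_quotient_orbitRel_zpowers_quot, index_eq_sum_minimalPeriod P (a : G),
    ← Finset.prod_pow_eq_pow_sum]
  exact Finset.prod_congr rfl fun q _ => key _ _ _

theorem not_quasiDihedral [IsSimpleGroup G] (hna : ¬ IsMulCommutative G) (S : Sylow 2 G)
    (hC : ∀ t : G, orderOf t = 2 → IsPGroup 2 ↥(centralizer ({t} : Set G))) :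
    ¬ Cfsg.IsQuasiDihedral (S : Subgroup G) := by
  intro hq
  have : Fact (Nat.Prime 2) := ⟨Nat.prime_two⟩
  obtain ⟨x, y, n, hh⟩ := qdgen_exists hq
  set z : ↥(S : Subgroup G) := qc x n (qh n) with hzdef
  have hzo : orderOf z = 2 := hh.order_two.2 (Or.inl rfl)
  have hzc : ∀ g : ↥(S : Subgroup G), g * z = z * g := Subgroup.mem_center_iff.1 hh.h_mem_center
  have hCz : centralizer ({(z : G)} : Set G) = (S : Subgroup G) :=
    S.is_maximal' (hC _ (by rw [Subgroup.orderOf_coe, hzo])) fun g hg =>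
      mem_centralizer_singleton_iff.2 (congrArg Subtype.val (hzc ⟨g, hg⟩))
  set M := hh.toD.range with hM
  have hMi : M.index = 2 := by
    have h1 := M.card_mul_index
    rw [hM, ← Nat.card_congr (MonoidHom.ofInjective hh.toD_inj).toEquiv, DihedralGroup.nat_card, hh.half,
      hh.card, pow_succ] at h1
    exact Nat.eq_of_mul_eq_mul_left (Nat.two_pow_pos n) h1
  obtain ⟨φ, hφ⟩ := exists_parity hMi
  have hx : φ x ≠ 1 := by
    rw [ne_eq, hφ, hM, hh.mem_range_toD]
    rintro (⟨m, hm⟩ | ⟨m, hm⟩)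
    · refine hh.even_ne_odd m 0 ?_
      rw [mul_zero, zero_add]
      exact hh.c_inj (hm.symm.trans hh.c_one.symm)
    · exact hh.c_ne 1 (2 * m) (hh.c_one.trans hm)
  have hinv : ∀ w : ↥(S : Subgroup G), w * w = 1 → φ w = 1 := by
    intro w hw
    rw [hφ]
    by_cases h1 : w = 1
    · rw [h1]; exact one_mem _
    · rw [hM, hh.mem_range_toD]
      rcases hh.order_two.1 (orderOf_eq_prime (by rw [pow_two, hw]) h1) with e | ⟨m, e⟩
      · exact Or.inl ⟨qq n, by rw [e, hh.two_q]⟩
      · exact Or.inr ⟨m, e⟩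
  -- every cyclic subgroup of order at least four contains the central involution
  have hpow : ∀ w : ↥(S : Subgroup G), w * w ≠ 1 → w ^ (orderOf w / 2) = z := by
    intro w hw
    obtain ⟨j, hj⟩ := IsPGroup.iff_orderOf.1 S.2 w
    obtain ⟨i, rfl⟩ : ∃ i, j = i + 2 := by
      refine ⟨j - 2, ?_⟩
      by_contra hlt
      refine hw ?_
      rw [← pow_two, ← orderOf_dvd_iff_pow_eq_one, hj]
      exact (pow_dvd_pow 2 (show j ≤ 1 by omega)).trans (pow_one 2).dvd
    have ho : orderOf (w ^ (orderOf w / 2)) = 2 := orderOf_pow_orderOf_div (orderOf_pos w).ne'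
      (by rw [hj]; exact dvd_pow_self 2 (by omega))
    have hm : w ^ (orderOf w / 2) ∈ zpowers x := by
      rw [show orderOf w / 2 = 2 * 2 ^ i by rw [hj, pow_succ', Nat.mul_div_cancel_left _ two_pos, pow_succ'],
        pow_mul, pow_two]
      exact pow_mem ((mul_mem_iff_of_index_two hh.index_x).2 Iff.rfl) _
    rcases hh.order_two.1 ho with e | ⟨m, e⟩
    · exact e
    · exfalso
      rw [e, mul_mem_cancel_left (show qc x n (2 * m) ∈ zpowers x from pow_mem (mem_zpowers x) _)] at hm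
      exact hh.y_notMem hm
  have key : ∀ (k : ℕ) (g₀ : G) (hk : g₀⁻¹ * (x : G) ^ k * g₀ ∈ (S : Subgroup G)),
      φ ⟨g₀⁻¹ * (x : G) ^ k * g₀, hk⟩ = φ x ^ k := by
    intro k g₀ hk
    set w : ↥(S : Subgroup G) := ⟨g₀⁻¹ * (x : G) ^ k * g₀, hk⟩ with hwdef
    have hwsq : w * w = 1 ↔ x ^ k * x ^ k = 1 := by
      rw [Subtype.ext_iff, Subtype.ext_iff, Subgroup.coe_mul, Subgroup.coe_mul, Subgroup.coe_one, hwdef]
      constructor
      · intro e
        calc _ = g₀ * (g₀⁻¹ * (x : G) ^ k * g₀ * (g₀⁻¹ * (x : G) ^ k * g₀)) * g₀⁻¹ := by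
              simp only [Subgroup.coe_pow]; group
          _ = 1 := by rw [e, mul_one, mul_inv_cancel]
      · intro e
        calc _ = g₀⁻¹ * ((x : G) ^ k * (x : G) ^ k) * g₀ := by group
          _ = 1 := by
            rw [Subgroup.coe_pow] at e
            rw [e, mul_one, inv_mul_cancel]
    rw [← map_pow]
    by_cases h1 : x ^ k * x ^ k = 1
    · rw [hinv w (hwsq.2 h1), hinv _ h1]
    have ho : orderOf w = orderOf (x ^ k) := by
      rw [← Subgroup.orderOf_coe, ← Subgroup.orderOf_coe (x ^ k), Subgroup.coe_pow]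
      show orderOf (g₀⁻¹ * (x : G) ^ k * g₀) = _
      rw [show g₀⁻¹ * (x : G) ^ k * g₀ = MulAut.conj g₀⁻¹ ((x : G) ^ k) by simp, MulEquiv.orderOf_eq]
    have e1 := hpow w fun e => h1 (hwsq.1 e)
    have e2 := hpow (x ^ k) h1
    rw [ho] at e1
    have e3 : g₀⁻¹ * (z : G) * g₀ = z := by
      conv_rhs => rw [← e1]
      rw [← e2, Subgroup.coe_pow, Subgroup.coe_pow, Subgroup.coe_pow]
      show _ = (g₀⁻¹ * (x : G) ^ k * g₀) ^ _
      rw [show g₀⁻¹ * (x : G) ^ k * g₀ = MulAut.conj g₀⁻¹ ((x : G) ^ k) by simp, ← map_pow]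
      simp
    have hg : g₀ ∈ (S : Subgroup G) := by
      rw [← hCz, mem_centralizer_singleton_iff]
      rw [mul_assoc, inv_mul_eq_iff_eq_mul] at e3
      exact e3.symm
    have hw' : w = (⟨g₀, hg⟩ : ↥(S : Subgroup G))⁻¹ * x ^ k * ⟨g₀, hg⟩ := Subtype.ext rfl
    rw [hw', map_mul, map_mul, map_inv, mul_right_comm, inv_mul_cancel, one_mul]
  have htr := transfer_of_fused φ x key
  have hne : MonoidHom.transfer φ (x : G) ≠ 1 := by
    rw [htr]
    intro e
    obtain ⟨c, hc⟩ := Nat.odd_iff.2 (Nat.two_dvd_ne_zero.1 S.not_dvd_index)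
    have h2 : φ x ^ 2 = 1 := multiplicative_two_sq _
    rw [hc, pow_succ, pow_mul, h2, one_pow, one_mul] at e
    exact hx e
  rcases ((MonoidHom.transfer φ).normal_ker).eq_bot_or_eq_top with hb | ht
  · refine hna ⟨⟨fun g g' => ?_⟩⟩
    refine (MonoidHom.ker_eq_bot_iff _).1 hb ?_
    rw [map_mul, map_mul, mul_comm]
  · exact hne (MonoidHom.mem_ker.1 (ht ▸ mem_top _))

end Cfsg.Agent.SelfCentNC
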