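import Cfsg.Agent.SelfCentNC.Centraliser
import Cfsg.Agent.SelfCentNC.Semidihedral
import Cfsg.Agent.SelfCentNC.Linear
import Cfsg.Agent.BSWAbstract.Dihedral
import Cfsg.Agent.Invol.KleinSylow
import Cfsg.Agent.S0204

/-!
A simple group in which every non-cyclic subgroup contains its centraliser is a group PSL(2, q).
-/

set_option autoImplicit false

namespace Cfsg.Agent.SelfCentNC

open Subgroup

universe u

variable {G : Type u} [Group G] [Finite G]

theorem sc_congr {H : Type*} [Group H] (e : G ≃* H) (h : SC H) : SC G := by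
  intro K hK x hx
  have := h (K.map e.toMonoidHom) (fun hc => hK ((e.subgroupMap K).isCyclic.2 hc))
    (show e x ∈ centralizer (↑(K.map e.toMonoidHom) : Set H) by
      rw [mem_centralizer_iff]
      rintro _ ⟨y, hy, rfl⟩
      show e y * e x = e x * e y
      rw [← map_mul, ← map_mul, mem_centralizer_iff.1 hx y hy])
  obtain ⟨y, hy, e'⟩ := this
  exact (e.injective e' : y = x) ▸ hy

theorem oddCore_eq_bot {X : Type*} [Group X] [Finite X] (hX : IsPGroup 2 X) : Cfsg.oddCore X = ⊥ := by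
  have : Fact (Nat.Prime 2) := ⟨Nat.prime_two⟩
  refine sSup_eq_bot.2 fun N hN => ?_
  obtain ⟨j, hj⟩ := IsPGroup.iff_card.1 (hX.to_subgroup N)
  have hc := hN.2
  rw [hj] at hc
  refine eq_bot_of_card_eq _ ?_
  rw [hj]
  rcases Nat.eq_zero_or_pos j with rfl | hj0
  · rfl
  · exact absurd (Nat.dvd_gcd (dvd_pow_self 2 hj0.ne') dvd_rfl) (by rw [hc.gcd_eq_one]; norm_num)

theorem forward [IsSimpleGroup G] (hna : ¬ IsMulCommutative G) (h : SC G) :
    ∃ (F : Type) (_ : Field F) (_ : Fintype F),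
      (Fintype.card F = 4 ∨ Fintype.card F = 9 ∨
        ((Fintype.card F).Prime ∧ ∃ k : ℕ, Fintype.card F = 2 ^ k + 1 ∨ Fintype.card F = 2 ^ k - 1)) ∧
      Nonempty (G ≃* Matrix.ProjectiveSpecialLinearGroup (Fin 2) F) := by
  classical
  have : Fact (Nat.Prime 2) := ⟨Nat.prime_two⟩
  obtain ⟨V, hV⟩ := Cfsg.Agent.S0204.result (G := G) (fun hc => hna ⟨⟨fun a b =>
    (IsCyclic.commGroup (α := G)).mul_comm a b⟩⟩)
  have hVp : IsPGroup 2 ↥V := IsPGroup.of_card (n := 2) (by rw [hV.card_four]; rfl)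
  obtain ⟨S, hVS⟩ := hVp.exists_le_sylow
  obtain ⟨a, b, ha, hb, hab⟩ : ∃ a b : G, (a ∈ V ∧ orderOf a = 2) ∧ (b ∈ V ∧ orderOf b = 2) ∧ a ≠ b := by
    have h4 := hV.card_four
    obtain ⟨a, ha⟩ : ∃ a : V, a ≠ 1 := by
      have : Nontrivial V := Finite.one_lt_card_iff_nontrivial.1 (by omega)
      exact exists_ne 1
    obtain ⟨b, hb⟩ : ∃ b : V, b ≠ 1 ∧ b ≠ a := by
      by_contra! hall
      have : Nat.card V ≤ 2 := by
        rw [← Set.ncard_univ, ← Set.ncard_pair ha.symm]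
        exact Set.ncard_le_ncard (fun v _ => (em (v = 1)).elim Or.inl fun hv => Or.inr (hall v hv))
      omega
    exact ⟨a, b, ⟨a.2, Invol.klein_orderOf hV a.2 fun e => ha (Subtype.ext e)⟩,
      ⟨b.2, Invol.klein_orderOf hV b.2 fun e => hb.1 (Subtype.ext e)⟩, fun e => hb.2 (Subtype.ext e).symm⟩
  -- a central involution of the Sylow subgroup
  have hSnt : Nontrivial (S : Subgroup G) :=
    ⟨⟨a, hVS ha.1⟩, 1, fun e => ne_one_of_orderOf ha.2 (congrArg Subtype.val e)⟩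
  have := S.2.center_nontrivial
  obtain ⟨z₀, hz₀⟩ := exists_prime_orderOf_dvd_card' (G := center ↥(S : Subgroup G)) 2 (by
    obtain ⟨j, hj⟩ := IsPGroup.iff_card.1 (S.2.to_subgroup (center ↥(S : Subgroup G)))
    rw [hj]
    refine dvd_pow_self 2 fun h0 => ?_
    rw [h0, pow_zero] at hj
    exact (Finite.one_lt_card (α := center ↥(S : Subgroup G))).ne' hj)
  set z : ↥(S : Subgroup G) := (z₀ : ↥(S : Subgroup G)) with hzdef
  have hzo : orderOf z = 2 := by rw [hzdef, Subgroup.orderOf_coe, hz₀]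
  have hzG : orderOf (z : G) = 2 := by rw [Subgroup.orderOf_coe, hzo]
  have hzc : ∀ g : ↥(S : Subgroup G), Commute g z := fun g => mem_center_iff.1 z₀.2 g
  obtain ⟨s, hso, hsne⟩ : ∃ s : ↥(S : Subgroup G), orderOf s = 2 ∧ s ≠ z := by
    by_contra! hall
    exact hab ((congrArg Subtype.val (hall ⟨a, hVS ha.1⟩ (by rw [Subgroup.orderOf_mk, ha.2]))).trans
      (congrArg Subtype.val (hall ⟨b, hVS hb.1⟩ (by rw [Subgroup.orderOf_mk, hb.2]))).symm)
  -- every involution commutes with a second one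
  have hpair : ∀ t : G, orderOf t = 2 → ∃ u : G, orderOf u = 2 ∧ u ≠ t ∧ Commute u t := by
    intro t ht
    obtain ⟨g, hg⟩ := Invol.exists_sylow_conj_mem S ht
    have ht' : orderOf (g * t * g⁻¹) = 2 := by rw [← MulAut.conj_apply, MulEquiv.orderOf_eq, ht]
    obtain ⟨u, hu, hune, huc⟩ : ∃ u : G, orderOf u = 2 ∧ u ≠ g * t * g⁻¹ ∧ Commute u (g * t * g⁻¹) := by
      by_cases he : g * t * g⁻¹ = z
      · refine ⟨s, by rw [Subgroup.orderOf_coe, hso], fun e => hsne (Subtype.ext (e.trans he)), ?_⟩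
        rw [he]
        exact congrArg Subtype.val (hzc s).eq
      · exact ⟨z, hzG, Ne.symm he, (congrArg Subtype.val (hzc ⟨_, hg⟩).eq).symm⟩
    refine ⟨g⁻¹ * u * g, ?_, fun e => hune ?_, ?_⟩
    · rw [show g⁻¹ * u * g = MulAut.conj g⁻¹ u by simp, MulEquiv.orderOf_eq, hu]
    · rw [← e]; group
    · have := huc.map (MulAut.conj g⁻¹).toMonoidHom
      simpa [mul_assoc] using this
  have hC : ∀ t : G, orderOf t = 2 → IsPGroup 2 ↥(centralizer ({t} : Set G)) := fun t ht => by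
    obtain ⟨u, hu, hune, huc⟩ := hpair t ht
    exact isPGroup_centralizer h ht hu hune huc
  -- the Sylow subgroup is dihedral
  obtain ⟨n, hn, ⟨e⟩⟩ : ∃ n : ℕ, 2 ≤ n ∧ Nonempty ((S : Subgroup G) ≃* DihedralGroup n) := by
    rcases shape (h.subgroup _) S.2 hzo hzc hso hsne with h4 | ⟨k, hk⟩ | hqd
    · have hVeq : V = (S : Subgroup G) := eq_of_le_of_card_ge hVS (by rw [h4, hV.card_four])
      have : IsKleinFour ↥(S : Subgroup G) := hVeq ▸ hV
      exact ⟨2, le_rfl, IsKleinFour.nonempty_mulEquiv⟩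
    · exact ⟨_, Nat.le_self_pow (by omega) 2, hk⟩
    · exact absurd hqd (not_quasiDihedral hna S hC)
  have hO : Cfsg.oddCore ↥(centralizer ({(z : G)} : Set G)) = ⊥ := oddCore_eq_bot (hC _ hzG)
  obtain ⟨F, iF, iFF, hodd, ⟨ψ⟩⟩ := BSWAbstract.dihedral_psl S hn e hzG z.2
    (fun w hw => congrArg Subtype.val (hzc ⟨w, hw⟩).eq) ⊥ (by rw [hO, Subgroup.map_bot])
    (fun hne => absurd rfl hne)
    (fun w _ hw y hy => absurd (mem_centralizer_iff.2 fun y' hy' => by
      rw [mem_bot.1 (hy' : y' ∈ (⊥ : Subgroup G)), one_mul, mul_one]) hw)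
    (fun Y hY hne => absurd (le_bot_iff.1 hY) hne)
  refine ⟨F, iF, iFF, Or.inr (card_of_centralizer hodd fun y hy => ?_), ⟨ψ⟩⟩
  refine (hC (ψ.symm y) (by rw [MulEquiv.orderOf_eq, hy])).of_surjective
    ((ψ.toMonoidHom.comp (centralizer ({ψ.symm y} : Set G)).subtype).codRestrict _ fun w => ?_) ?_
  · rw [mem_centralizer_singleton_iff]
    have := congrArg ψ (mem_centralizer_singleton_iff.1 w.2)
    simpa using this
  · intro v
    refine ⟨⟨ψ.symm v, mem_centralizer_singleton_iff.2 ?_⟩, Subtype.ext (by simp)⟩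
    rw [← map_mul, ← map_mul, mem_centralizer_singleton_iff.1 v.2]

end Cfsg.Agent.SelfCentNC
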