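import Cfsg.Agent.SelfCentNC.TwoGroup
import Cfsg.Agent.Invol.BaerSuzuki
import Mathlib.GroupTheory.Perm.Cycle.Type

/-!
In a group in which every non-cyclic subgroup contains its centraliser, the centraliser of an
involution which commutes with another one is a 2-group.
-/

set_option autoImplicit false

namespace Cfsg.Agent.SelfCentNC

open Subgroup

variable {X : Type*} [Group X] [Finite X] {t : X}

/-- Two involutions generate a 2-group when one further central involution is present. -/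
theorem isPGroup_pair (h : SC X) (ht : orderOf t = 2) (htc : ∀ g, Commute g t) {s s' : X}
    (hs : orderOf s = 2) (hs' : orderOf s' = 2) : IsPGroup 2 ↥(zpowers s ⊔ zpowers s') := by
  have : Fact (Nat.Prime 2) := ⟨Nat.prime_two⟩
  have hs2 := mul_self_of_orderOf hs
  have hs'2 := mul_self_of_orderOf hs'
  have hinv : ∀ k : ℤ, s * (s * s') ^ k * s⁻¹ = (s * s') ^ (-k) := fun k => by
    rw [← conj_zpow, zpow_neg, ← inv_zpow, mul_inv_rev, inv_eq_of_mul_eq_one_right hs2,
      inv_eq_of_mul_eq_one_right hs'2]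
    congr 1
    rw [← mul_assoc, hs2, one_mul]
  have hord : ∀ r : ℕ, r.Prime → r ∣ orderOf (s * s') → r = 2 := by
    intro r hr hd
    by_contra hr2
    set y := (s * s') ^ (orderOf (s * s') / r) with hy
    have hyo : orderOf y = r := orderOf_pow_orderOf_div (orderOf_pos _).ne' hd
    have hsy : s * y * s⁻¹ = y⁻¹ := by
      rw [hy, ← zpow_natCast, hinv, zpow_neg]
    have hyne : s * y ≠ y * s := fun e => by
      rw [e, mul_inv_cancel_right] at hsy
      have h1 : orderOf y ∣ 2 := orderOf_dvd_of_pow_eq_one (by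
        rw [pow_two]; nth_rw 1 [hsy]; exact inv_mul_cancel y)
      rw [hyo] at h1
      exact hr2 ((Nat.prime_dvd_prime_iff_eq hr Nat.prime_two).1 h1)
    have hN : zpowers s ≤ normalizer (zpowers y : Set X) := by
      refine zpowers_le.2 (Invol.mem_normalizer_of_conj_le ?_)
      rw [MonoidHom.map_zpowers, MulEquiv.coe_toMonoidHom, MulAut.conj_apply, hsy, zpowers_le]
      exact inv_mem (mem_zpowers y)
    set H := zpowers y ⊔ zpowers s with hH
    have hnc : ¬ IsCyclic ↥H := fun hc => hyne (congrArg Subtype.val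
      ((IsCyclic.commGroup (α := H)).mul_comm ⟨s, mem_sup_right (mem_zpowers s)⟩
        ⟨y, mem_sup_left (mem_zpowers y)⟩))
    have htH : t ∈ H := h H hnc (mem_centralizer_iff.2 fun w _ => (htc w).eq)
    rw [← SetLike.mem_coe, hH, Subgroup.coe_mul_of_right_le_normalizer_left _ _ hN] at htH
    obtain ⟨u, hu, w, hw, huw⟩ := Set.mem_mul.1 htH
    obtain ⟨i, rfl⟩ := mem_zpowers_iff.1 hu
    obtain ⟨j, rfl⟩ := mem_zpowers_iff.1 hw
    rcases Int.even_or_odd j with ⟨l, rfl⟩ | ⟨l, rfl⟩
    · rw [← two_mul, zpow_mul, zpow_two, hs2, one_zpow, mul_one] at huw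
      have h1 : orderOf t ∣ r := by
        rw [← huw]
        refine orderOf_dvd_of_pow_eq_one ?_
        rw [← zpow_natCast, ← zpow_mul, mul_comm, zpow_mul, zpow_natCast, ← hyo, pow_orderOf_eq_one, one_zpow]
      rw [ht] at h1
      exact hr2 ((Nat.prime_dvd_prime_iff_eq Nat.prime_two hr).1 h1).symm
    · rw [zpow_add, zpow_mul, zpow_two, hs2, one_zpow, one_mul, zpow_one] at huw
      apply hyne
      have h1 : Commute y (y ^ i * s) := huw ▸ htc y
      have h2 : Commute y s := by
        have := ((Commute.refl y).zpow_right (-i)).mul_right h1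
        rwa [← mul_assoc, ← zpow_add, neg_add_cancel, zpow_zero, one_mul] at this
      exact h2.eq.symm
  obtain ⟨j, hj⟩ : ∃ j, orderOf (s * s') = 2 ^ j :=
    ⟨_, Nat.eq_prime_pow_of_unique_prime_dvd (orderOf_pos _).ne' fun {d} hd hdd => hord d hd hdd⟩
  have hN : zpowers s ≤ normalizer (zpowers (s * s') : Set X) := by
    refine zpowers_le.2 (Invol.mem_normalizer_of_conj_le ?_)
    rw [MonoidHom.map_zpowers, MulEquiv.coe_toMonoidHom, MulAut.conj_apply, zpowers_le,
      show s * (s * s') * s⁻¹ = (s * s') ^ (-1 : ℤ) by rw [← hinv 1, zpow_one]]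
    exact zpow_mem (mem_zpowers _) _
  have hp1 : IsPGroup 2 ↥(zpowers (s * s')) := IsPGroup.of_card (n := j) (by rw [Nat.card_zpowers, hj])
  have hp2 : IsPGroup 2 ↥(zpowers s) := IsPGroup.of_card (n := 1) (by rw [Nat.card_zpowers, hs, pow_one])
  refine (Invol.isPGroup_sup_of_le_normalizer hp2 hp1 hN).to_le (sup_le le_sup_left (zpowers_le.2 ?_))
  have hm : s * (s * s') ∈ zpowers s ⊔ zpowers (s * s') :=
    mul_mem (mem_sup_left (mem_zpowers s)) (mem_sup_right (mem_zpowers _))
  rwa [← mul_assoc, hs2, one_mul] at hm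

theorem isPGroup_of_central (h : SC X) (ht : orderOf t = 2) (htc : ∀ g, Commute g t)
    (hex : ∃ s : X, orderOf s = 2 ∧ s ≠ t) : IsPGroup 2 X := by
  classical
  have : Fact (Nat.Prime 2) := ⟨Nat.prime_two⟩
  obtain ⟨s, hs, hne⟩ := hex
  obtain ⟨N, hNn, hNp, hsN⟩ := Invol.baerSuzuki (zpowers s)
    (IsPGroup.of_card (n := 1) (by rw [Nat.card_zpowers, hs, pow_one]) : IsPGroup 2 ↥(zpowers s))
    (fun g => by
      rw [MonoidHom.map_zpowers]
      exact isPGroup_pair h ht htc hs (by rw [MulEquiv.coe_toMonoidHom, MulEquiv.orderOf_eq, hs]))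
  have hZn : (zpowers t).Normal := ⟨fun w hw g => by
    obtain ⟨i, rfl⟩ := mem_zpowers_iff.1 hw
    rw [((htc g).zpow_right i).eq, mul_inv_cancel_right]
    exact zpow_mem (mem_zpowers t) i⟩
  set Q := N ⊔ zpowers t with hQdef
  have hQn : Q.Normal := inferInstance
  have hQ : IsPGroup 2 ↥Q := hNp.to_sup_of_normal_left
    (IsPGroup.of_card (n := 1) (by rw [Nat.card_zpowers, ht, pow_one]))
  set z : ↥Q := ⟨t, mem_sup_right (mem_zpowers t)⟩
  set s₀ : ↥Q := ⟨s, mem_sup_left (hsN (mem_zpowers s))⟩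
  have hzo : orderOf z = 2 := by rw [Subgroup.orderOf_mk, ht]
  have hs₀o : orderOf s₀ = 2 := by rw [Subgroup.orderOf_mk, hs]
  have hzc : ∀ g : ↥Q, Commute g z := fun g => Subtype.ext (htc g).eq
  have hs₀ne : s₀ ≠ z := fun e => hne (congrArg Subtype.val e)
  obtain ⟨j, hj⟩ := IsPGroup.iff_card.1 hQ
  obtain ⟨i, -, hi⟩ := (Nat.dvd_prime_pow Nat.prime_two).1
    (hj ▸ card_involutions (h.subgroup Q) hQ hzo hzc hs₀o hs₀ne)
  obtain ⟨k, hk⟩ : ∃ k, Nat.card X = 2 ^ k := by
    refine ⟨_, Nat.eq_prime_pow_of_unique_prime_dvd Nat.card_pos.ne' fun {r} hr hrd => ?_⟩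
    by_contra hr2
    have : Fact r.Prime := ⟨hr⟩
    obtain ⟨x, hx⟩ := exists_prime_orderOf_dvd_card' r hrd
    let φ : MulAut ↥Q := MulAut.conjNormal x
    have hφ : ∀ q : ↥Q, orderOf q = 2 ∧ q ≠ z ↔ orderOf (φ q) = 2 ∧ φ q ≠ z := fun q => by
      have hz' : φ z = z := Subtype.ext (by
        rw [MulAut.conjNormal_apply]
        show x * t * x⁻¹ = t
        rw [(htc x).eq, mul_inv_cancel_right])
      rw [MulEquiv.orderOf_eq]
      exact and_congr_right' (not_congr ⟨fun e => by rw [e, hz'], fun e => φ.injective (e.trans hz'.symm)⟩)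
    let σ : Equiv.Perm {q : ↥Q // orderOf q = 2 ∧ q ≠ z} := φ.toEquiv.subtypeEquiv hφ
    have hpow : ∀ (n : ℕ) q, ((σ ^ n) q : ↥Q) = (φ ^ n) q.1 := by
      intro n
      induction n with
      | zero => intro q; rfl
      | succ n ih =>
        intro q
        rw [pow_succ', pow_succ', Equiv.Perm.mul_apply, MulAut.mul_apply, ← ih]
        rfl
    have hσ : σ ^ r ^ 1 = 1 := Equiv.ext fun q => Subtype.ext (by
      rw [hpow, pow_one]
      show (MulAut.conjNormal x ^ r) q.1 = q.1
      rw [← map_pow, ← hx, pow_orderOf_eq_one, map_one]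
      rfl)
    have := Fintype.ofFinite {q : ↥Q // orderOf q = 2 ∧ q ≠ z}
    obtain ⟨q, hq⟩ := Equiv.Perm.exists_fixed_point_of_prime (p := r) (n := 1) (fun hd => hr2 (by
      rw [← Nat.card_eq_fintype_card, hi] at hd
      exact (Nat.prime_dvd_prime_iff_eq hr Nat.prime_two).1 (hr.dvd_of_dvd_pow hd))) hσ
    have hxq : x * (q.1 : X) * x⁻¹ = q.1 := by
      have := congrArg (fun w : {q : ↥Q // orderOf q = 2 ∧ q ≠ z} => ((w : ↥Q) : X)) hq
      simpa [σ, φ] using this
    have hx2 : x * x = 1 := h.commute_sq (s := (q.1 : X)) (t := t) (by rw [Subgroup.orderOf_coe]; exact q.2.1) ht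
      (fun e => q.2.2 (Subtype.ext e)) (htc _) (mul_inv_eq_iff_eq_mul.1 hxq) (htc x)
    have := orderOf_dvd_of_pow_eq_one (show x ^ 2 = 1 by rw [pow_two, hx2])
    rw [hx] at this
    exact hr2 ((Nat.prime_dvd_prime_iff_eq hr Nat.prime_two).1 this)
  exact IsPGroup.of_card hk

variable {G : Type*} [Group G] [Finite G]

/-- If every involution commutes with a second one, every involution centraliser is a 2-group. -/
theorem isPGroup_centralizer (h : SC G) {t s : G} (ht : orderOf t = 2) (hs : orderOf s = 2) (hne : s ≠ t)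
    (hst : Commute s t) : IsPGroup 2 ↥(centralizer ({t} : Set G)) := by
  refine isPGroup_of_central (h.subgroup _) (t := ⟨t, mem_centralizer_singleton_iff.2 rfl⟩)
    (by rw [Subgroup.orderOf_mk, ht]) (fun g => Subtype.ext (mem_centralizer_singleton_iff.1 g.2))
    ⟨⟨s, mem_centralizer_singleton_iff.2 hst.eq⟩, by rw [Subgroup.orderOf_mk, hs],
      fun e => hne (congrArg Subtype.val e)⟩

end Cfsg.Agent.SelfCentNC
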