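import Cfsg.Agent.MaxClass.Class
import Mathlib.GroupTheory.GroupAction.ConjAct
import Mathlib.Data.Set.Card

/-!
Groups in which every non-cyclic subgroup contains its centraliser: the 2-groups among them that
have two involutions, one of them central.
-/

set_option autoImplicit false

namespace Cfsg.Agent.SelfCentNC

open Subgroup

variable {G : Type*} [Group G]

/-- Every non-cyclic subgroup contains its centraliser. -/
def SC (G : Type*) [Group G] : Prop :=
  ∀ H : Subgroup G, ¬ IsCyclic ↥H → centralizer (H : Set G) ≤ H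

theorem SC.subgroup (h : SC G) (K : Subgroup G) : SC ↥K := by
  intro H hH x hx
  have hH' : ¬ IsCyclic ↥(H.map K.subtype) := fun hc =>
    hH ((equivMapOfInjective H K.subtype K.subtype_injective).isCyclic.2 hc)
  have := h _ hH' (show (x : G) ∈ centralizer (↑(H.map K.subtype) : Set G) by
    rw [mem_centralizer_iff]
    rintro _ ⟨y, hy, rfl⟩
    exact congrArg Subtype.val (mem_centralizer_iff.1 hx y hy))
  obtain ⟨y, hy, e⟩ := this
  exact (Subtype.ext e : y = x) ▸ hy

theorem eq_of_isCyclic [Finite G] {M : Subgroup G} (hM : IsCyclic ↥M) {x y : G} (hx : x ∈ M)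
    (hy : y ∈ M) (hx2 : orderOf x = 2) (hy2 : orderOf y = 2) : x = y := by
  have hm := Fusion.mem_zpowers_of_orderOf_dvd (x := x) (w := y) hM hy hx (by rw [hx2, hy2])
  obtain ⟨k, hk⟩ := (isOfFinOrder_of_finite x).mem_powers_iff_mem_zpowers.2 hm
  have hk' : x ^ k = y := hk
  rw [← pow_mod_orderOf, hx2] at hk'
  rcases Nat.mod_two_eq_zero_or_one k with e | e <;> rw [e] at hk'
  · rw [pow_zero] at hk'; rw [← hk', orderOf_one] at hy2; omega
  · simpa using hk'

theorem mul_self_of_orderOf {s : G} (hs : orderOf s = 2) : s * s = 1 := by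
  rw [← pow_two, ← hs, pow_orderOf_eq_one]

theorem ne_one_of_orderOf {s : G} (hs : orderOf s = 2) : s ≠ 1 := fun e => by
  rw [e, orderOf_one] at hs; omega

/-- The four group on two commuting involutions. -/
def four {s t : G} (hs : orderOf s = 2) (ht : orderOf t = 2) (h : Commute s t) : Subgroup G where
  carrier := {1, s, t, s * t}
  one_mem' := by simp
  mul_mem' := by
    have hs2 := mul_self_of_orderOf hs
    have ht2 := mul_self_of_orderOf ht
    have e1 : t * s = s * t := h.symm
    have e2 : t * (s * t) = s := by rw [← mul_assoc, e1, mul_assoc, ht2, mul_one]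
    have e3 : s * (s * t) = t := by rw [← mul_assoc, hs2, one_mul]
    have e4 : s * t * s = t := by rw [mul_assoc, e1, e3]
    have e5 : s * t * t = s := by rw [mul_assoc, ht2, mul_one]
    have e6 : s * t * (s * t) = 1 := by rw [mul_assoc, e2, hs2]
    intro p q hp hq
    simp only [Set.mem_insert_iff, Set.mem_singleton_iff] at hp hq ⊢
    rcases hp with rfl | rfl | rfl | rfl <;> rcases hq with rfl | rfl | rfl | rfl <;>
      simp [e1, e2, e3, e4, e5, e6, ht2, hs2]
  inv_mem' := by
    intro p hp
    simp only [Set.mem_insert_iff, Set.mem_singleton_iff] at hp ⊢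
    rcases hp with rfl | rfl | rfl | rfl <;>
      simp [inv_eq_of_mul_eq_one_right (mul_self_of_orderOf hs),
        inv_eq_of_mul_eq_one_right (mul_self_of_orderOf ht), h.eq]

/-- An element commuting with two commuting involutions lies in the four group they generate. -/
theorem SC.commute_cases [Finite G] (h : SC G) {s t g : G} (hs : orderOf s = 2) (ht : orderOf t = 2)
    (hne : s ≠ t) (hst : Commute s t) (hgs : Commute g s) (hgt : Commute g t) :
    g = 1 ∨ g = s ∨ g = t ∨ g = s * t := by
  have hc : ¬ IsCyclic ↥(four hs ht hst) := fun hc =>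
    hne (eq_of_isCyclic hc (by simp [four]) (by simp [four]) hs ht)
  have hg : g ∈ four hs ht hst := h _ hc (mem_centralizer_iff.2 (by
    intro w hw
    simp only [four, coe_set_mk, Set.mem_insert_iff, Set.mem_singleton_iff] at hw
    rcases hw with rfl | rfl | rfl | rfl
    · simp
    · exact hgs.eq.symm
    · exact hgt.eq.symm
    · exact (hgs.mul_right hgt).eq.symm))
  simpa [four] using hg

theorem SC.commute_sq [Finite G] (h : SC G) {s t g : G} (hs : orderOf s = 2) (ht : orderOf t = 2)
    (hne : s ≠ t) (hst : Commute s t) (hgs : Commute g s) (hgt : Commute g t) : g * g = 1 := by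
  rcases h.commute_cases hs ht hne hst hgs hgt with rfl | rfl | rfl | rfl
  · exact mul_one 1
  · exact mul_self_of_orderOf hs
  · exact mul_self_of_orderOf ht
  · rw [hst.symm.mul_mul_mul_comm, mul_self_of_orderOf hs, mul_self_of_orderOf ht, mul_one]

section TwoGroup

variable {Q : Type*} [Group Q] [Finite Q] {z s : Q}

theorem card_centralizer (h : SC Q) (hz : orderOf z = 2) (hzc : ∀ g, Commute g z)
    (hs : orderOf s = 2) (hne : s ≠ z) : Nat.card ↥(centralizer ({s} : Set Q)) = 4 := by
  have hset : (centralizer ({s} : Set Q) : Set Q) = {1, s, z, s * z} := by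
    ext g
    rw [SetLike.mem_coe, mem_centralizer_singleton_iff]
    constructor
    · intro hg
      simpa using h.commute_cases hs hz hne (hzc s) hg (hzc g)
    · intro hg
      simp only [Set.mem_insert_iff, Set.mem_singleton_iff] at hg
      rcases hg with rfl | rfl | rfl | rfl
      · simp
      · rfl
      · exact (hzc s).eq.symm
      · rw [mul_assoc, ← (hzc s).eq]
  rw [← SetLike.coe_sort_coe, hset, Nat.card_coe_set_eq]
  have n1 : s * z ≠ 1 := fun e => hne (by
    rw [eq_inv_of_mul_eq_one_left e, inv_eq_of_mul_eq_one_right (mul_self_of_orderOf hz)])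
  rw [Set.ncard_insert_of_notMem (by simp [(ne_one_of_orderOf hs).symm, (ne_one_of_orderOf hz).symm, n1.symm]),
    Set.ncard_insert_of_notMem (by simp [hne, ne_one_of_orderOf hz]),
    Set.ncard_pair (by simp [ne_one_of_orderOf hs])]

theorem shape (h : SC Q) (hQ : IsPGroup 2 Q) (hz : orderOf z = 2) (hzc : ∀ g, Commute g z)
    (hs : orderOf s = 2) (hne : s ≠ z) :
    Nat.card Q = 4 ∨ (∃ k : ℕ, Nonempty (Q ≃* DihedralGroup (2 ^ (k + 2)))) ∨ Cfsg.IsQuasiDihedral Q := by
  have h4 := card_centralizer h hz hzc hs hne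
  rcases MaxClass.mc_of_centralizer hQ s h4 with e | hd | ⟨k, hc, a, b, ha, hb, he⟩ | ⟨k, ⟨e⟩⟩
  · exact Or.inl e
  · exact Or.inr (Or.inl hd)
  · exact Or.inr (Or.inr (MaxClass.isQuasiDihedral_of_data hc ha hb he))
  · exfalso
    have hes : orderOf (e s) = 2 := by rw [MulEquiv.orderOf_eq, hs]
    have htop : centralizer ({s} : Set Q) = ⊤ := eq_top_iff.2 fun g _ => mem_centralizer_singleton_iff.2
      (e.injective (by rw [map_mul, map_mul]; exact MaxClass.quaternion_involution_central hes (e g)))
    rw [htop, card_top, Nat.card_congr e.toEquiv, Nat.card_eq_fintype_card, QuaternionGroup.card] at h4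
    have h2 : 2 ≤ 2 ^ (k + 1) := Nat.le_self_pow (Nat.succ_ne_zero k) 2
    omega

/-- There is a cyclic subgroup of index two through the central involution. -/
theorem exists_cyclic_index_two (h : SC Q) (hQ : IsPGroup 2 Q) (hz : orderOf z = 2) (hzc : ∀ g, Commute g z)
    (hs : orderOf s = 2) (hne : s ≠ z) : ∃ a : Q, (zpowers a).index = 2 ∧ z ∈ zpowers a := by
  rcases MaxClass.mc_of_centralizer hQ s (card_centralizer h hz hzc hs hne) with e | hmc
  · refine ⟨z, ?_, mem_zpowers z⟩
    have := (zpowers z).card_mul_index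
    rw [Nat.card_zpowers, hz, e] at this
    omega
  · obtain ⟨m, a, b, u, hm, -, ha, hi, hb, hu, he⟩ := hmc.data
    refine ⟨a, hi, ?_⟩
    by_contra hza
    have hba : Commute b a := by
      rcases MaxClass.cover_of_index_two hi hza b with hba | hba
      · exact absurd hba hb
      · obtain ⟨i, hi'⟩ := mem_zpowers_iff.1 hba
        have hb' : b = z * a ^ i := by rw [hi', mul_inv_cancel_left]
        rw [hb']
        exact ((hzc a).symm).mul_left ((Commute.refl a).zpow_left i)
    rw [hba.eq, mul_inv_cancel_right, eq_comm] at he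
    nth_rw 2 [← zpow_one a] at he
    rw [MaxClass.zpow_eq_iff ha] at he
    obtain ⟨j, rfl⟩ : ∃ j, m = j + 2 := ⟨m - 2, by omega⟩
    rw [show (1 : ℤ) - (2 * u + 1) = 2 * (-u) by ring, pow_succ',
      mul_dvd_mul_iff_left (two_ne_zero : (2 : ℤ) ≠ 0), dvd_neg] at he
    exact (Int.not_even_iff_odd.2 hu) (even_iff_two_dvd.2 ((dvd_pow_self 2 (by omega)).trans he))

theorem card_class (h : SC Q) (hz : orderOf z = 2) (hzc : ∀ g, Commute g z) (hs : orderOf s = 2) (hne : s ≠ z) :
    {r : Q | IsConj s r}.ncard * 4 = Nat.card Q := by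
  have h1 := MulAction.index_stabilizer (ConjAct Q) s
  rw [ConjAct.orbit_eq_carrier_conjClasses, ConjAct.stabilizer_eq_centralizer] at h1
  have h2 : {r : Q | IsConj s r} = (ConjClasses.mk s).carrier := by
    ext r
    exact ⟨fun e => ConjClasses.mem_carrier_iff_mk_eq.2 (ConjClasses.mk_eq_mk_iff_isConj.2 e.symm),
      fun e => (ConjClasses.mk_eq_mk_iff_isConj.1 (ConjClasses.mem_carrier_iff_mk_eq.1 e)).symm⟩
  have h3 := (centralizer ({s} : Set Q)).card_mul_index
  rw [card_centralizer h hz hzc hs hne, mul_comm] at h3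
  rw [h2, ← h3]
  congr 1
  exact h1.symm

/-- The number of non-central involutions is a power of two. -/
theorem card_involutions (h : SC Q) (hQ : IsPGroup 2 Q) (hz : orderOf z = 2) (hzc : ∀ g, Commute g z)
    (hs : orderOf s = 2) (hne : s ≠ z) : Nat.card {r : Q // orderOf r = 2 ∧ r ≠ z} ∣ Nat.card Q := by
  obtain ⟨a, hi, hza⟩ := exists_cyclic_index_two h hQ hz hzc hs hne
  set T : Set Q := {r | orderOf r = 2 ∧ r ≠ z}
  have hT : T ⊆ (zpowers a : Set Q)ᶜ := fun r hr hra =>
    hr.2 (eq_of_isCyclic (inferInstance : IsCyclic ↥(zpowers a)) hra hza hr.1 hz)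
  have hA := (zpowers a).card_mul_index
  rw [hi] at hA
  have hTle : T.ncard * 2 ≤ Nat.card Q := by
    have h1 := Set.ncard_le_ncard hT (Set.toFinite _)
    rw [Set.ncard_compl, ← Nat.card_coe_set_eq (zpowers a : Set Q), SetLike.coe_sort_coe] at h1
    omega
  have hsub : ∀ r ∈ T, {r' | IsConj r r'} ⊆ T := by
    rintro r ⟨hr, hrz⟩ r' hr'
    obtain ⟨c, rfl⟩ := isConj_iff.1 (Set.mem_setOf_eq ▸ hr')
    refine ⟨?_, fun e => hrz ?_⟩
    · rw [← MulAut.conj_apply, MulEquiv.orderOf_eq, hr]
    · calc r = c⁻¹ * (c * r * c⁻¹) * c := by group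
        _ = z := by rw [e, mul_assoc, ← (hzc c).eq, inv_mul_cancel_left]
  show Nat.card T ∣ _
  rw [Nat.card_coe_set_eq]
  by_cases hone : ∀ r ∈ T, IsConj s r
  · have : T = {r | IsConj s r} := Set.Subset.antisymm hone (hsub s ⟨hs, hne⟩)
    exact ⟨4, by rw [this, card_class h hz hzc hs hne]⟩
  · push Not at hone
    obtain ⟨r, ⟨hr, hrz⟩, hnr⟩ := hone
    have hdis : Disjoint {r' : Q | IsConj s r'} {r' | IsConj r r'} :=
      Set.disjoint_left.2 fun x h1 h2 => hnr (IsConj.trans h1 (IsConj.symm h2))
    have h2 := Set.ncard_le_ncard (Set.union_subset (hsub s ⟨hs, hne⟩) (hsub r ⟨hr, hrz⟩)) (Set.toFinite T)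
    rw [Set.ncard_union_eq hdis (Set.toFinite _) (Set.toFinite _)] at h2
    have h3 := card_class h hz hzc hs hne
    have h4 := card_class h hz hzc hr hrz
    exact ⟨2, by omega⟩

end TwoGroup

end Cfsg.Agent.SelfCentNC
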